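import Cfsg.Agent.Depth.P.T.Trm
import Cfsg.Agent.Depth.P.T.S0a
import Cfsg.Agent.Depth.P.T.S0b
import Cfsg.Agent.Depth.P.T.S1
import Cfsg.Agent.Depth.P.T.S2
import Cfsg.Agent.Depth.P.T.S3
import Cfsg.Agent.Depth.P.T.S4
import Cfsg.Agent.Depth.P.T.S5
import Cfsg.Agent.Depth.P.T.S6
import Cfsg.Agent.Depth.P.T.S7
import Cfsg.Agent.Depth.P.T.S8
import Cfsg.Agent.Depth.P.T.S9

/-!
# Depth (S5768): the tables (helper45; generated by `notes/Depth/P45_emit3.py.txt`)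
-/

set_option autoImplicit false
set_option maxRecDepth 100000
set_option Elab.async false

namespace Cfsg.Agent.Depth.P.T

theorem and8 {a b c d e f g h : Bool} (x : (a && b && c && d && e && f && g && h) = true) :
    a = true ∧ b = true ∧ c = true ∧ d = true ∧ e = true ∧ f = true ∧ g = true ∧ h = true := by
  simp only [Bool.and_eq_true] at x
  obtain ⟨⟨⟨⟨⟨⟨⟨x1, x2⟩, x3⟩, x4⟩, x5⟩, x6⟩, x7⟩, x8⟩ := x
  exact ⟨x1, x2, x3, x4, x5, x6, x7, x8⟩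

/-- the segments of a table in a class -/
def cP60_1 : List (Seg × Dyn) :=
  [(g0_1, dP60_0_1), (g1_1, dP60_1_1), (g2_1, dP60_2_1), (g3_1, dP60_3_1), (g4_1, dP60_4_1), (g5_1, dP60_5_1), (g6_1,
  dP60_6_1), (g7_1, dP60_7_1), (g8_1, dP60_8_1), (g9_1, dP60_9_1)]

theorem aP60_1 : AllOk jP60 lp lm cP60_1 :=
  ⟨(and8 seg0_1).1, rfl, rfl, (and8 seg1_1).1, rfl, rfl, (and8 seg2_1).1, rfl, rfl, (and8 seg3_1).1, rfl, rfl, (and8
  seg4_1).1, rfl, rfl, (and8 seg5_1).1, rfl, rfl, (and8 seg6_1).1, rfl, rfl, (and8 seg7_1).1, rfl, rfl, (and8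
  seg8_1).1, rfl, rfl, (and8 seg9_1).1, rfl, rfl, trivial⟩

/-- the segments of a table in a class -/
def cP60_7 : List (Seg × Dyn) :=
  [(g0_7, dP60_0_7), (g1_7, dP60_1_7), (g2_7, dP60_2_7), (g3_7, dP60_3_7), (g4_7, dP60_4_7), (g5_7, dP60_5_7), (g6_7,
  dP60_6_7), (g7_7, dP60_7_7), (g8_7, dP60_8_7), (g9_7, dP60_9_7)]

theorem aP60_7 : AllOk jP60 lp lm cP60_7 :=
  ⟨(and8 seg0_7).1, rfl, rfl, (and8 seg1_7).1, rfl, rfl, (and8 seg2_7).1, rfl, rfl, (and8 seg3_7).1, rfl, rfl, (and8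
  seg4_7).1, rfl, rfl, (and8 seg5_7).1, rfl, rfl, (and8 seg6_7).1, rfl, rfl, (and8 seg7_7).1, rfl, rfl, (and8
  seg8_7).1, rfl, rfl, (and8 seg9_7).1, rfl, rfl, trivial⟩

/-- the segments of a table in a class -/
def cP60_11 : List (Seg × Dyn) :=
  [(g0_11, dP60_0_11), (g1_11, dP60_1_11), (g2_11, dP60_2_11), (g3_11, dP60_3_11), (g4_11, dP60_4_11), (g5_11,
  dP60_5_11), (g6_11, dP60_6_11), (g7_11, dP60_7_11), (g8_11, dP60_8_11), (g9_11, dP60_9_11)]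

theorem aP60_11 : AllOk jP60 lp lm cP60_11 :=
  ⟨(and8 seg0_11).1, rfl, rfl, (and8 seg1_11).1, rfl, rfl, (and8 seg2_11).1, rfl, rfl, (and8 seg3_11).1, rfl, rfl, (and8
  seg4_11).1, rfl, rfl, (and8 seg5_11).1, rfl, rfl, (and8 seg6_11).1, rfl, rfl, (and8 seg7_11).1, rfl, rfl, (and8
  seg8_11).1, rfl, rfl, (and8 seg9_11).1, rfl, rfl, trivial⟩

/-- the segments of a table in a class -/
def cP60_13 : List (Seg × Dyn) :=
  [(g0_13, dP60_0_13), (g1_13, dP60_1_13), (g2_13, dP60_2_13), (g3_13, dP60_3_13), (g4_13, dP60_4_13), (g5_13,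
  dP60_5_13), (g6_13, dP60_6_13), (g7_13, dP60_7_13), (g8_13, dP60_8_13), (g9_13, dP60_9_13)]

theorem aP60_13 : AllOk jP60 lp lm cP60_13 :=
  ⟨(and8 seg0_13).1, rfl, rfl, (and8 seg1_13).1, rfl, rfl, (and8 seg2_13).1, rfl, rfl, (and8 seg3_13).1, rfl, rfl, (and8
  seg4_13).1, rfl, rfl, (and8 seg5_13).1, rfl, rfl, (and8 seg6_13).1, rfl, rfl, (and8 seg7_13).1, rfl, rfl, (and8
  seg8_13).1, rfl, rfl, (and8 seg9_13).1, rfl, rfl, trivial⟩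

/-- the segments of a table in a class -/
def cP60_17 : List (Seg × Dyn) :=
  [(g0_17, dP60_0_17), (g1_17, dP60_1_17), (g2_17, dP60_2_17), (g3_17, dP60_3_17), (g4_17, dP60_4_17), (g5_17,
  dP60_5_17), (g6_17, dP60_6_17), (g7_17, dP60_7_17), (g8_17, dP60_8_17), (g9_17, dP60_9_17)]

theorem aP60_17 : AllOk jP60 lp lm cP60_17 :=
  ⟨(and8 seg0_17).1, rfl, rfl, (and8 seg1_17).1, rfl, rfl, (and8 seg2_17).1, rfl, rfl, (and8 seg3_17).1, rfl, rfl, (and8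
  seg4_17).1, rfl, rfl, (and8 seg5_17).1, rfl, rfl, (and8 seg6_17).1, rfl, rfl, (and8 seg7_17).1, rfl, rfl, (and8
  seg8_17).1, rfl, rfl, (and8 seg9_17).1, rfl, rfl, trivial⟩

/-- the segments of a table in a class -/
def cP60_19 : List (Seg × Dyn) :=
  [(g0_19, dP60_0_19), (g1_19, dP60_1_19), (g2_19, dP60_2_19), (g3_19, dP60_3_19), (g4_19, dP60_4_19), (g5_19,
  dP60_5_19), (g6_19, dP60_6_19), (g7_19, dP60_7_19), (g8_19, dP60_8_19), (g9_19, dP60_9_19)]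

theorem aP60_19 : AllOk jP60 lp lm cP60_19 :=
  ⟨(and8 seg0_19).1, rfl, rfl, (and8 seg1_19).1, rfl, rfl, (and8 seg2_19).1, rfl, rfl, (and8 seg3_19).1, rfl, rfl, (and8
  seg4_19).1, rfl, rfl, (and8 seg5_19).1, rfl, rfl, (and8 seg6_19).1, rfl, rfl, (and8 seg7_19).1, rfl, rfl, (and8
  seg8_19).1, rfl, rfl, (and8 seg9_19).1, rfl, rfl, trivial⟩

/-- the segments of a table in a class -/
def cP60_23 : List (Seg × Dyn) :=
  [(g0_23, dP60_0_23), (g1_23, dP60_1_23), (g2_23, dP60_2_23), (g3_23, dP60_3_23), (g4_23, dP60_4_23), (g5_23,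
  dP60_5_23), (g6_23, dP60_6_23), (g7_23, dP60_7_23), (g8_23, dP60_8_23), (g9_23, dP60_9_23)]

theorem aP60_23 : AllOk jP60 lp lm cP60_23 :=
  ⟨(and8 seg0_23).1, rfl, rfl, (and8 seg1_23).1, rfl, rfl, (and8 seg2_23).1, rfl, rfl, (and8 seg3_23).1, rfl, rfl, (and8
  seg4_23).1, rfl, rfl, (and8 seg5_23).1, rfl, rfl, (and8 seg6_23).1, rfl, rfl, (and8 seg7_23).1, rfl, rfl, (and8
  seg8_23).1, rfl, rfl, (and8 seg9_23).1, rfl, rfl, trivial⟩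

/-- the segments of a table in a class -/
def cP60_29 : List (Seg × Dyn) :=
  [(g0_29, dP60_0_29), (g1_29, dP60_1_29), (g2_29, dP60_2_29), (g3_29, dP60_3_29), (g4_29, dP60_4_29), (g5_29,
  dP60_5_29), (g6_29, dP60_6_29), (g7_29, dP60_7_29), (g8_29, dP60_8_29), (g9_29, dP60_9_29)]

theorem aP60_29 : AllOk jP60 lp lm cP60_29 :=
  ⟨(and8 seg0_29).1, rfl, rfl, (and8 seg1_29).1, rfl, rfl, (and8 seg2_29).1, rfl, rfl, (and8 seg3_29).1, rfl, rfl, (and8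
  seg4_29).1, rfl, rfl, (and8 seg5_29).1, rfl, rfl, (and8 seg6_29).1, rfl, rfl, (and8 seg7_29).1, rfl, rfl, (and8
  seg8_29).1, rfl, rfl, (and8 seg9_29).1, rfl, rfl, trivial⟩

theorem tabP60 : Tab 1 60 23000 Ap60 Am60 0 bP60 :=
  tab_of (J := jP60) trm60 0x30000 (by decide +kernel)
    [(1, cP60_1), (7, cP60_7), (11, cP60_11), (13, cP60_13), (17, cP60_17), (19, cP60_19), (23, cP60_23), (29, cP60_29)]
    rfl bP60 ⟨aP60_1, aP60_7, aP60_11, aP60_13, aP60_17, aP60_19, aP60_23, aP60_29, trivial⟩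
    (by decide +kernel)

/-- the segments of a table in a class -/
def cI60_1 : List (Seg × Dyn) :=
  [(g0_1, dI60_0_1), (g1_1, dI60_1_1), (g2_1, dI60_2_1), (g3_1, dI60_3_1), (g4_1, dI60_4_1), (g5_1, dI60_5_1), (g6_1,
  dI60_6_1), (g7_1, dI60_7_1), (g8_1, dI60_8_1), (g9_1, dI60_9_1)]

theorem aI60_1 : AllOk jI60 lp lm cI60_1 :=
  ⟨(and8 seg0_1).2.1, rfl, rfl, (and8 seg1_1).2.1, rfl, rfl, (and8 seg2_1).2.1, rfl, rfl, (and8 seg3_1).2.1, rfl, rfl,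
  (and8 seg4_1).2.1, rfl, rfl, (and8 seg5_1).2.1, rfl, rfl, (and8 seg6_1).2.1, rfl, rfl, (and8 seg7_1).2.1, rfl, rfl,
  (and8 seg8_1).2.1, rfl, rfl, (and8 seg9_1).2.1, rfl, rfl, trivial⟩

/-- the segments of a table in a class -/
def cI60_7 : List (Seg × Dyn) :=
  [(g0_7, dI60_0_7), (g1_7, dI60_1_7), (g2_7, dI60_2_7), (g3_7, dI60_3_7), (g4_7, dI60_4_7), (g5_7, dI60_5_7), (g6_7,
  dI60_6_7), (g7_7, dI60_7_7), (g8_7, dI60_8_7), (g9_7, dI60_9_7)]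

theorem aI60_7 : AllOk jI60 lp lm cI60_7 :=
  ⟨(and8 seg0_7).2.1, rfl, rfl, (and8 seg1_7).2.1, rfl, rfl, (and8 seg2_7).2.1, rfl, rfl, (and8 seg3_7).2.1, rfl, rfl,
  (and8 seg4_7).2.1, rfl, rfl, (and8 seg5_7).2.1, rfl, rfl, (and8 seg6_7).2.1, rfl, rfl, (and8 seg7_7).2.1, rfl, rfl,
  (and8 seg8_7).2.1, rfl, rfl, (and8 seg9_7).2.1, rfl, rfl, trivial⟩

/-- the segments of a table in a class -/
def cI60_11 : List (Seg × Dyn) :=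
  [(g0_11, dI60_0_11), (g1_11, dI60_1_11), (g2_11, dI60_2_11), (g3_11, dI60_3_11), (g4_11, dI60_4_11), (g5_11,
  dI60_5_11), (g6_11, dI60_6_11), (g7_11, dI60_7_11), (g8_11, dI60_8_11), (g9_11, dI60_9_11)]

theorem aI60_11 : AllOk jI60 lp lm cI60_11 :=
  ⟨(and8 seg0_11).2.1, rfl, rfl, (and8 seg1_11).2.1, rfl, rfl, (and8 seg2_11).2.1, rfl, rfl, (and8 seg3_11).2.1, rfl,
  rfl, (and8 seg4_11).2.1, rfl, rfl, (and8 seg5_11).2.1, rfl, rfl, (and8 seg6_11).2.1, rfl, rfl, (and8 seg7_11).2.1,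
  rfl, rfl, (and8 seg8_11).2.1, rfl, rfl, (and8 seg9_11).2.1, rfl, rfl, trivial⟩

/-- the segments of a table in a class -/
def cI60_13 : List (Seg × Dyn) :=
  [(g0_13, dI60_0_13), (g1_13, dI60_1_13), (g2_13, dI60_2_13), (g3_13, dI60_3_13), (g4_13, dI60_4_13), (g5_13,
  dI60_5_13), (g6_13, dI60_6_13), (g7_13, dI60_7_13), (g8_13, dI60_8_13), (g9_13, dI60_9_13)]

theorem aI60_13 : AllOk jI60 lp lm cI60_13 :=
  ⟨(and8 seg0_13).2.1, rfl, rfl, (and8 seg1_13).2.1, rfl, rfl, (and8 seg2_13).2.1, rfl, rfl, (and8 seg3_13).2.1, rfl,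
  rfl, (and8 seg4_13).2.1, rfl, rfl, (and8 seg5_13).2.1, rfl, rfl, (and8 seg6_13).2.1, rfl, rfl, (and8 seg7_13).2.1,
  rfl, rfl, (and8 seg8_13).2.1, rfl, rfl, (and8 seg9_13).2.1, rfl, rfl, trivial⟩

/-- the segments of a table in a class -/
def cI60_17 : List (Seg × Dyn) :=
  [(g0_17, dI60_0_17), (g1_17, dI60_1_17), (g2_17, dI60_2_17), (g3_17, dI60_3_17), (g4_17, dI60_4_17), (g5_17,
  dI60_5_17), (g6_17, dI60_6_17), (g7_17, dI60_7_17), (g8_17, dI60_8_17), (g9_17, dI60_9_17)]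

theorem aI60_17 : AllOk jI60 lp lm cI60_17 :=
  ⟨(and8 seg0_17).2.1, rfl, rfl, (and8 seg1_17).2.1, rfl, rfl, (and8 seg2_17).2.1, rfl, rfl, (and8 seg3_17).2.1, rfl,
  rfl, (and8 seg4_17).2.1, rfl, rfl, (and8 seg5_17).2.1, rfl, rfl, (and8 seg6_17).2.1, rfl, rfl, (and8 seg7_17).2.1,
  rfl, rfl, (and8 seg8_17).2.1, rfl, rfl, (and8 seg9_17).2.1, rfl, rfl, trivial⟩

/-- the segments of a table in a class -/
def cI60_19 : List (Seg × Dyn) :=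
  [(g0_19, dI60_0_19), (g1_19, dI60_1_19), (g2_19, dI60_2_19), (g3_19, dI60_3_19), (g4_19, dI60_4_19), (g5_19,
  dI60_5_19), (g6_19, dI60_6_19), (g7_19, dI60_7_19), (g8_19, dI60_8_19), (g9_19, dI60_9_19)]

theorem aI60_19 : AllOk jI60 lp lm cI60_19 :=
  ⟨(and8 seg0_19).2.1, rfl, rfl, (and8 seg1_19).2.1, rfl, rfl, (and8 seg2_19).2.1, rfl, rfl, (and8 seg3_19).2.1, rfl,
  rfl, (and8 seg4_19).2.1, rfl, rfl, (and8 seg5_19).2.1, rfl, rfl, (and8 seg6_19).2.1, rfl, rfl, (and8 seg7_19).2.1,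
  rfl, rfl, (and8 seg8_19).2.1, rfl, rfl, (and8 seg9_19).2.1, rfl, rfl, trivial⟩

/-- the segments of a table in a class -/
def cI60_23 : List (Seg × Dyn) :=
  [(g0_23, dI60_0_23), (g1_23, dI60_1_23), (g2_23, dI60_2_23), (g3_23, dI60_3_23), (g4_23, dI60_4_23), (g5_23,
  dI60_5_23), (g6_23, dI60_6_23), (g7_23, dI60_7_23), (g8_23, dI60_8_23), (g9_23, dI60_9_23)]

theorem aI60_23 : AllOk jI60 lp lm cI60_23 :=
  ⟨(and8 seg0_23).2.1, rfl, rfl, (and8 seg1_23).2.1, rfl, rfl, (and8 seg2_23).2.1, rfl, rfl, (and8 seg3_23).2.1, rfl,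
  rfl, (and8 seg4_23).2.1, rfl, rfl, (and8 seg5_23).2.1, rfl, rfl, (and8 seg6_23).2.1, rfl, rfl, (and8 seg7_23).2.1,
  rfl, rfl, (and8 seg8_23).2.1, rfl, rfl, (and8 seg9_23).2.1, rfl, rfl, trivial⟩

/-- the segments of a table in a class -/
def cI60_29 : List (Seg × Dyn) :=
  [(g0_29, dI60_0_29), (g1_29, dI60_1_29), (g2_29, dI60_2_29), (g3_29, dI60_3_29), (g4_29, dI60_4_29), (g5_29,
  dI60_5_29), (g6_29, dI60_6_29), (g7_29, dI60_7_29), (g8_29, dI60_8_29), (g9_29, dI60_9_29)]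

theorem aI60_29 : AllOk jI60 lp lm cI60_29 :=
  ⟨(and8 seg0_29).2.1, rfl, rfl, (and8 seg1_29).2.1, rfl, rfl, (and8 seg2_29).2.1, rfl, rfl, (and8 seg3_29).2.1, rfl,
  rfl, (and8 seg4_29).2.1, rfl, rfl, (and8 seg5_29).2.1, rfl, rfl, (and8 seg6_29).2.1, rfl, rfl, (and8 seg7_29).2.1,
  rfl, rfl, (and8 seg8_29).2.1, rfl, rfl, (and8 seg9_29).2.1, rfl, rfl, trivial⟩

theorem tabI60 : Tab 2 60 23000 Ap60 Am60 0 bI60 :=
  tab_of (J := jI60) trm60 0x30000 (by decide +kernel)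
    [(1, cI60_1), (7, cI60_7), (11, cI60_11), (13, cI60_13), (17, cI60_17), (19, cI60_19), (23, cI60_23), (29, cI60_29)]
    rfl bI60 ⟨aI60_1, aI60_7, aI60_11, aI60_13, aI60_17, aI60_19, aI60_23, aI60_29, trivial⟩
    (by decide +kernel)

/-- the segments of a table in a class -/
def cI120_1 : List (Seg × Dyn) :=
  [(g0_1, dI120_0_1), (g1_1, dI120_1_1), (g2_1, dI120_2_1), (g3_1, dI120_3_1), (g4_1, dI120_4_1), (g5_1, dI120_5_1),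
  (g6_1, dI120_6_1), (g7_1, dI120_7_1), (g8_1, dI120_8_1), (g9_1, dI120_9_1)]

theorem aI120_1 : AllOk jI120 lp lm cI120_1 :=
  ⟨(and8 seg0_1).2.2.1, rfl, rfl, (and8 seg1_1).2.2.1, rfl, rfl, (and8 seg2_1).2.2.1, rfl, rfl, (and8 seg3_1).2.2.1,
  rfl, rfl, (and8 seg4_1).2.2.1, rfl, rfl, (and8 seg5_1).2.2.1, rfl, rfl, (and8 seg6_1).2.2.1, rfl, rfl, (and8
  seg7_1).2.2.1, rfl, rfl, (and8 seg8_1).2.2.1, rfl, rfl, (and8 seg9_1).2.2.1, rfl, rfl, trivial⟩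

/-- the segments of a table in a class -/
def cI120_7 : List (Seg × Dyn) :=
  [(g0_7, dI120_0_7), (g1_7, dI120_1_7), (g2_7, dI120_2_7), (g3_7, dI120_3_7), (g4_7, dI120_4_7), (g5_7, dI120_5_7),
  (g6_7, dI120_6_7), (g7_7, dI120_7_7), (g8_7, dI120_8_7), (g9_7, dI120_9_7)]

theorem aI120_7 : AllOk jI120 lp lm cI120_7 :=
  ⟨(and8 seg0_7).2.2.1, rfl, rfl, (and8 seg1_7).2.2.1, rfl, rfl, (and8 seg2_7).2.2.1, rfl, rfl, (and8 seg3_7).2.2.1,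
  rfl, rfl, (and8 seg4_7).2.2.1, rfl, rfl, (and8 seg5_7).2.2.1, rfl, rfl, (and8 seg6_7).2.2.1, rfl, rfl, (and8
  seg7_7).2.2.1, rfl, rfl, (and8 seg8_7).2.2.1, rfl, rfl, (and8 seg9_7).2.2.1, rfl, rfl, trivial⟩

/-- the segments of a table in a class -/
def cI120_11 : List (Seg × Dyn) :=
  [(g0_11, dI120_0_11), (g1_11, dI120_1_11), (g2_11, dI120_2_11), (g3_11, dI120_3_11), (g4_11, dI120_4_11), (g5_11,
  dI120_5_11), (g6_11, dI120_6_11), (g7_11, dI120_7_11), (g8_11, dI120_8_11), (g9_11, dI120_9_11)]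

theorem aI120_11 : AllOk jI120 lp lm cI120_11 :=
  ⟨(and8 seg0_11).2.2.1, rfl, rfl, (and8 seg1_11).2.2.1, rfl, rfl, (and8 seg2_11).2.2.1, rfl, rfl, (and8 seg3_11).2.2.1,
  rfl, rfl, (and8 seg4_11).2.2.1, rfl, rfl, (and8 seg5_11).2.2.1, rfl, rfl, (and8 seg6_11).2.2.1, rfl, rfl, (and8
  seg7_11).2.2.1, rfl, rfl, (and8 seg8_11).2.2.1, rfl, rfl, (and8 seg9_11).2.2.1, rfl, rfl, trivial⟩

/-- the segments of a table in a class -/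
def cI120_13 : List (Seg × Dyn) :=
  [(g0_13, dI120_0_13), (g1_13, dI120_1_13), (g2_13, dI120_2_13), (g3_13, dI120_3_13), (g4_13, dI120_4_13), (g5_13,
  dI120_5_13), (g6_13, dI120_6_13), (g7_13, dI120_7_13), (g8_13, dI120_8_13), (g9_13, dI120_9_13)]

theorem aI120_13 : AllOk jI120 lp lm cI120_13 :=
  ⟨(and8 seg0_13).2.2.1, rfl, rfl, (and8 seg1_13).2.2.1, rfl, rfl, (and8 seg2_13).2.2.1, rfl, rfl, (and8 seg3_13).2.2.1,
  rfl, rfl, (and8 seg4_13).2.2.1, rfl, rfl, (and8 seg5_13).2.2.1, rfl, rfl, (and8 seg6_13).2.2.1, rfl, rfl, (and8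
  seg7_13).2.2.1, rfl, rfl, (and8 seg8_13).2.2.1, rfl, rfl, (and8 seg9_13).2.2.1, rfl, rfl, trivial⟩

/-- the segments of a table in a class -/
def cI120_17 : List (Seg × Dyn) :=
  [(g0_17, dI120_0_17), (g1_17, dI120_1_17), (g2_17, dI120_2_17), (g3_17, dI120_3_17), (g4_17, dI120_4_17), (g5_17,
  dI120_5_17), (g6_17, dI120_6_17), (g7_17, dI120_7_17), (g8_17, dI120_8_17), (g9_17, dI120_9_17)]

theorem aI120_17 : AllOk jI120 lp lm cI120_17 :=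
  ⟨(and8 seg0_17).2.2.1, rfl, rfl, (and8 seg1_17).2.2.1, rfl, rfl, (and8 seg2_17).2.2.1, rfl, rfl, (and8 seg3_17).2.2.1,
  rfl, rfl, (and8 seg4_17).2.2.1, rfl, rfl, (and8 seg5_17).2.2.1, rfl, rfl, (and8 seg6_17).2.2.1, rfl, rfl, (and8
  seg7_17).2.2.1, rfl, rfl, (and8 seg8_17).2.2.1, rfl, rfl, (and8 seg9_17).2.2.1, rfl, rfl, trivial⟩

/-- the segments of a table in a class -/
def cI120_19 : List (Seg × Dyn) :=
  [(g0_19, dI120_0_19), (g1_19, dI120_1_19), (g2_19, dI120_2_19), (g3_19, dI120_3_19), (g4_19, dI120_4_19), (g5_19,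
  dI120_5_19), (g6_19, dI120_6_19), (g7_19, dI120_7_19), (g8_19, dI120_8_19), (g9_19, dI120_9_19)]

theorem aI120_19 : AllOk jI120 lp lm cI120_19 :=
  ⟨(and8 seg0_19).2.2.1, rfl, rfl, (and8 seg1_19).2.2.1, rfl, rfl, (and8 seg2_19).2.2.1, rfl, rfl, (and8 seg3_19).2.2.1,
  rfl, rfl, (and8 seg4_19).2.2.1, rfl, rfl, (and8 seg5_19).2.2.1, rfl, rfl, (and8 seg6_19).2.2.1, rfl, rfl, (and8
  seg7_19).2.2.1, rfl, rfl, (and8 seg8_19).2.2.1, rfl, rfl, (and8 seg9_19).2.2.1, rfl, rfl, trivial⟩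

/-- the segments of a table in a class -/
def cI120_23 : List (Seg × Dyn) :=
  [(g0_23, dI120_0_23), (g1_23, dI120_1_23), (g2_23, dI120_2_23), (g3_23, dI120_3_23), (g4_23, dI120_4_23), (g5_23,
  dI120_5_23), (g6_23, dI120_6_23), (g7_23, dI120_7_23), (g8_23, dI120_8_23), (g9_23, dI120_9_23)]

theorem aI120_23 : AllOk jI120 lp lm cI120_23 :=
  ⟨(and8 seg0_23).2.2.1, rfl, rfl, (and8 seg1_23).2.2.1, rfl, rfl, (and8 seg2_23).2.2.1, rfl, rfl, (and8 seg3_23).2.2.1,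
  rfl, rfl, (and8 seg4_23).2.2.1, rfl, rfl, (and8 seg5_23).2.2.1, rfl, rfl, (and8 seg6_23).2.2.1, rfl, rfl, (and8
  seg7_23).2.2.1, rfl, rfl, (and8 seg8_23).2.2.1, rfl, rfl, (and8 seg9_23).2.2.1, rfl, rfl, trivial⟩

/-- the segments of a table in a class -/
def cI120_29 : List (Seg × Dyn) :=
  [(g0_29, dI120_0_29), (g1_29, dI120_1_29), (g2_29, dI120_2_29), (g3_29, dI120_3_29), (g4_29, dI120_4_29), (g5_29,
  dI120_5_29), (g6_29, dI120_6_29), (g7_29, dI120_7_29), (g8_29, dI120_8_29), (g9_29, dI120_9_29)]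

theorem aI120_29 : AllOk jI120 lp lm cI120_29 :=
  ⟨(and8 seg0_29).2.2.1, rfl, rfl, (and8 seg1_29).2.2.1, rfl, rfl, (and8 seg2_29).2.2.1, rfl, rfl, (and8 seg3_29).2.2.1,
  rfl, rfl, (and8 seg4_29).2.2.1, rfl, rfl, (and8 seg5_29).2.2.1, rfl, rfl, (and8 seg6_29).2.2.1, rfl, rfl, (and8
  seg7_29).2.2.1, rfl, rfl, (and8 seg8_29).2.2.1, rfl, rfl, (and8 seg9_29).2.2.1, rfl, rfl, trivial⟩

theorem tabI120 : Tab 2 120 23000 Ap60 Am60 0 bI120 :=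
  tab_of (J := jI120) trm120 0xf00000000 (by decide +kernel)
    [(1, cI120_1), (7, cI120_7), (11, cI120_11), (13, cI120_13), (17, cI120_17), (19, cI120_19), (23, cI120_23), (29, cI120_29)]
    rfl bI120 ⟨aI120_1, aI120_7, aI120_11, aI120_13, aI120_17, aI120_19, aI120_23, aI120_29, trivial⟩
    (by decide +kernel)

/-- the segments of a table in a class -/
def cI840_1 : List (Seg × Dyn) :=
  [(g0_1, dI840_0_1), (g1_1, dI840_1_1), (g2_1, dI840_2_1), (g3_1, dI840_3_1), (g4_1, dI840_4_1), (g5_1, dI840_5_1),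
  (g6_1, dI840_6_1), (g7_1, dI840_7_1), (g8_1, dI840_8_1), (g9_1, dI840_9_1)]

theorem aI840_1 : AllOk jI840 lp lm cI840_1 :=
  ⟨(and8 seg0_1).2.2.2.1, rfl, rfl, (and8 seg1_1).2.2.2.1, rfl, rfl, (and8 seg2_1).2.2.2.1, rfl, rfl, (and8
  seg3_1).2.2.2.1, rfl, rfl, (and8 seg4_1).2.2.2.1, rfl, rfl, (and8 seg5_1).2.2.2.1, rfl, rfl, (and8 seg6_1).2.2.2.1,
  rfl, rfl, (and8 seg7_1).2.2.2.1, rfl, rfl, (and8 seg8_1).2.2.2.1, rfl, rfl, (and8 seg9_1).2.2.2.1, rfl, rfl,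
  trivial⟩

/-- the segments of a table in a class -/
def cI840_7 : List (Seg × Dyn) :=
  [(g0_7, dI840_0_7), (g1_7, dI840_1_7), (g2_7, dI840_2_7), (g3_7, dI840_3_7), (g4_7, dI840_4_7), (g5_7, dI840_5_7),
  (g6_7, dI840_6_7), (g7_7, dI840_7_7), (g8_7, dI840_8_7), (g9_7, dI840_9_7)]

theorem aI840_7 : AllOk jI840 lp lm cI840_7 :=
  ⟨(and8 seg0_7).2.2.2.1, rfl, rfl, (and8 seg1_7).2.2.2.1, rfl, rfl, (and8 seg2_7).2.2.2.1, rfl, rfl, (and8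
  seg3_7).2.2.2.1, rfl, rfl, (and8 seg4_7).2.2.2.1, rfl, rfl, (and8 seg5_7).2.2.2.1, rfl, rfl, (and8 seg6_7).2.2.2.1,
  rfl, rfl, (and8 seg7_7).2.2.2.1, rfl, rfl, (and8 seg8_7).2.2.2.1, rfl, rfl, (and8 seg9_7).2.2.2.1, rfl, rfl,
  trivial⟩

/-- the segments of a table in a class -/
def cI840_11 : List (Seg × Dyn) :=
  [(g0_11, dI840_0_11), (g1_11, dI840_1_11), (g2_11, dI840_2_11), (g3_11, dI840_3_11), (g4_11, dI840_4_11), (g5_11,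
  dI840_5_11), (g6_11, dI840_6_11), (g7_11, dI840_7_11), (g8_11, dI840_8_11), (g9_11, dI840_9_11)]

theorem aI840_11 : AllOk jI840 lp lm cI840_11 :=
  ⟨(and8 seg0_11).2.2.2.1, rfl, rfl, (and8 seg1_11).2.2.2.1, rfl, rfl, (and8 seg2_11).2.2.2.1, rfl, rfl, (and8
  seg3_11).2.2.2.1, rfl, rfl, (and8 seg4_11).2.2.2.1, rfl, rfl, (and8 seg5_11).2.2.2.1, rfl, rfl, (and8
  seg6_11).2.2.2.1, rfl, rfl, (and8 seg7_11).2.2.2.1, rfl, rfl, (and8 seg8_11).2.2.2.1, rfl, rfl, (and8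
  seg9_11).2.2.2.1, rfl, rfl, trivial⟩

/-- the segments of a table in a class -/
def cI840_13 : List (Seg × Dyn) :=
  [(g0_13, dI840_0_13), (g1_13, dI840_1_13), (g2_13, dI840_2_13), (g3_13, dI840_3_13), (g4_13, dI840_4_13), (g5_13,
  dI840_5_13), (g6_13, dI840_6_13), (g7_13, dI840_7_13), (g8_13, dI840_8_13), (g9_13, dI840_9_13)]

theorem aI840_13 : AllOk jI840 lp lm cI840_13 :=
  ⟨(and8 seg0_13).2.2.2.1, rfl, rfl, (and8 seg1_13).2.2.2.1, rfl, rfl, (and8 seg2_13).2.2.2.1, rfl, rfl, (and8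
  seg3_13).2.2.2.1, rfl, rfl, (and8 seg4_13).2.2.2.1, rfl, rfl, (and8 seg5_13).2.2.2.1, rfl, rfl, (and8
  seg6_13).2.2.2.1, rfl, rfl, (and8 seg7_13).2.2.2.1, rfl, rfl, (and8 seg8_13).2.2.2.1, rfl, rfl, (and8
  seg9_13).2.2.2.1, rfl, rfl, trivial⟩

/-- the segments of a table in a class -/
def cI840_17 : List (Seg × Dyn) :=
  [(g0_17, dI840_0_17), (g1_17, dI840_1_17), (g2_17, dI840_2_17), (g3_17, dI840_3_17), (g4_17, dI840_4_17), (g5_17,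
  dI840_5_17), (g6_17, dI840_6_17), (g7_17, dI840_7_17), (g8_17, dI840_8_17), (g9_17, dI840_9_17)]

theorem aI840_17 : AllOk jI840 lp lm cI840_17 :=
  ⟨(and8 seg0_17).2.2.2.1, rfl, rfl, (and8 seg1_17).2.2.2.1, rfl, rfl, (and8 seg2_17).2.2.2.1, rfl, rfl, (and8
  seg3_17).2.2.2.1, rfl, rfl, (and8 seg4_17).2.2.2.1, rfl, rfl, (and8 seg5_17).2.2.2.1, rfl, rfl, (and8
  seg6_17).2.2.2.1, rfl, rfl, (and8 seg7_17).2.2.2.1, rfl, rfl, (and8 seg8_17).2.2.2.1, rfl, rfl, (and8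
  seg9_17).2.2.2.1, rfl, rfl, trivial⟩

/-- the segments of a table in a class -/
def cI840_19 : List (Seg × Dyn) :=
  [(g0_19, dI840_0_19), (g1_19, dI840_1_19), (g2_19, dI840_2_19), (g3_19, dI840_3_19), (g4_19, dI840_4_19), (g5_19,
  dI840_5_19), (g6_19, dI840_6_19), (g7_19, dI840_7_19), (g8_19, dI840_8_19), (g9_19, dI840_9_19)]

theorem aI840_19 : AllOk jI840 lp lm cI840_19 :=
  ⟨(and8 seg0_19).2.2.2.1, rfl, rfl, (and8 seg1_19).2.2.2.1, rfl, rfl, (and8 seg2_19).2.2.2.1, rfl, rfl, (and8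
  seg3_19).2.2.2.1, rfl, rfl, (and8 seg4_19).2.2.2.1, rfl, rfl, (and8 seg5_19).2.2.2.1, rfl, rfl, (and8
  seg6_19).2.2.2.1, rfl, rfl, (and8 seg7_19).2.2.2.1, rfl, rfl, (and8 seg8_19).2.2.2.1, rfl, rfl, (and8
  seg9_19).2.2.2.1, rfl, rfl, trivial⟩

/-- the segments of a table in a class -/
def cI840_23 : List (Seg × Dyn) :=
  [(g0_23, dI840_0_23), (g1_23, dI840_1_23), (g2_23, dI840_2_23), (g3_23, dI840_3_23), (g4_23, dI840_4_23), (g5_23,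
  dI840_5_23), (g6_23, dI840_6_23), (g7_23, dI840_7_23), (g8_23, dI840_8_23), (g9_23, dI840_9_23)]

theorem aI840_23 : AllOk jI840 lp lm cI840_23 :=
  ⟨(and8 seg0_23).2.2.2.1, rfl, rfl, (and8 seg1_23).2.2.2.1, rfl, rfl, (and8 seg2_23).2.2.2.1, rfl, rfl, (and8
  seg3_23).2.2.2.1, rfl, rfl, (and8 seg4_23).2.2.2.1, rfl, rfl, (and8 seg5_23).2.2.2.1, rfl, rfl, (and8
  seg6_23).2.2.2.1, rfl, rfl, (and8 seg7_23).2.2.2.1, rfl, rfl, (and8 seg8_23).2.2.2.1, rfl, rfl, (and8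
  seg9_23).2.2.2.1, rfl, rfl, trivial⟩

/-- the segments of a table in a class -/
def cI840_29 : List (Seg × Dyn) :=
  [(g0_29, dI840_0_29), (g1_29, dI840_1_29), (g2_29, dI840_2_29), (g3_29, dI840_3_29), (g4_29, dI840_4_29), (g5_29,
  dI840_5_29), (g6_29, dI840_6_29), (g7_29, dI840_7_29), (g8_29, dI840_8_29), (g9_29, dI840_9_29)]

theorem aI840_29 : AllOk jI840 lp lm cI840_29 :=
  ⟨(and8 seg0_29).2.2.2.1, rfl, rfl, (and8 seg1_29).2.2.2.1, rfl, rfl, (and8 seg2_29).2.2.2.1, rfl, rfl, (and8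
  seg3_29).2.2.2.1, rfl, rfl, (and8 seg4_29).2.2.2.1, rfl, rfl, (and8 seg5_29).2.2.2.1, rfl, rfl, (and8
  seg6_29).2.2.2.1, rfl, rfl, (and8 seg7_29).2.2.2.1, rfl, rfl, (and8 seg8_29).2.2.2.1, rfl, rfl, (and8
  seg9_29).2.2.2.1, rfl, rfl, trivial⟩

theorem tabI840 : Tab 2 840 34000 Ap840 Am840 0 bI840 :=
  tab_of (J := jI840) trm840 0xfffffff00000000000000000000000000000000000000000000000000000000 (by decide +kernel)
    [(1, cI840_1), (7, cI840_7), (11, cI840_11), (13, cI840_13), (17, cI840_17), (19, cI840_19), (23, cI840_23), (29, cI840_29)]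
    rfl bI840 ⟨aI840_1, aI840_7, aI840_11, aI840_13, aI840_17, aI840_19, aI840_23, aI840_29, trivial⟩
    (by decide +kernel)

/-- the segments of a table in a class -/
def cI1320_1 : List (Seg × Dyn) :=
  [(g0_1, dI1320_0_1), (g1_1, dI1320_1_1), (g2_1, dI1320_2_1), (g3_1, dI1320_3_1), (g4_1, dI1320_4_1), (g5_1,
  dI1320_5_1), (g6_1, dI1320_6_1), (g7_1, dI1320_7_1), (g8_1, dI1320_8_1), (g9_1, dI1320_9_1)]

theorem aI1320_1 : AllOk jI1320 lp lm cI1320_1 :=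
  ⟨(and8 seg0_1).2.2.2.2.1, rfl, rfl, (and8 seg1_1).2.2.2.2.1, rfl, rfl, (and8 seg2_1).2.2.2.2.1, rfl, rfl, (and8
  seg3_1).2.2.2.2.1, rfl, rfl, (and8 seg4_1).2.2.2.2.1, rfl, rfl, (and8 seg5_1).2.2.2.2.1, rfl, rfl, (and8
  seg6_1).2.2.2.2.1, rfl, rfl, (and8 seg7_1).2.2.2.2.1, rfl, rfl, (and8 seg8_1).2.2.2.2.1, rfl, rfl, (and8
  seg9_1).2.2.2.2.1, rfl, rfl, trivial⟩

/-- the segments of a table in a class -/
def cI1320_7 : List (Seg × Dyn) :=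
  [(g0_7, dI1320_0_7), (g1_7, dI1320_1_7), (g2_7, dI1320_2_7), (g3_7, dI1320_3_7), (g4_7, dI1320_4_7), (g5_7,
  dI1320_5_7), (g6_7, dI1320_6_7), (g7_7, dI1320_7_7), (g8_7, dI1320_8_7), (g9_7, dI1320_9_7)]

theorem aI1320_7 : AllOk jI1320 lp lm cI1320_7 :=
  ⟨(and8 seg0_7).2.2.2.2.1, rfl, rfl, (and8 seg1_7).2.2.2.2.1, rfl, rfl, (and8 seg2_7).2.2.2.2.1, rfl, rfl, (and8
  seg3_7).2.2.2.2.1, rfl, rfl, (and8 seg4_7).2.2.2.2.1, rfl, rfl, (and8 seg5_7).2.2.2.2.1, rfl, rfl, (and8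
  seg6_7).2.2.2.2.1, rfl, rfl, (and8 seg7_7).2.2.2.2.1, rfl, rfl, (and8 seg8_7).2.2.2.2.1, rfl, rfl, (and8
  seg9_7).2.2.2.2.1, rfl, rfl, trivial⟩

/-- the segments of a table in a class -/
def cI1320_11 : List (Seg × Dyn) :=
  [(g0_11, dI1320_0_11), (g1_11, dI1320_1_11), (g2_11, dI1320_2_11), (g3_11, dI1320_3_11), (g4_11, dI1320_4_11), (g5_11,
  dI1320_5_11), (g6_11, dI1320_6_11), (g7_11, dI1320_7_11), (g8_11, dI1320_8_11), (g9_11, dI1320_9_11)]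

theorem aI1320_11 : AllOk jI1320 lp lm cI1320_11 :=
  ⟨(and8 seg0_11).2.2.2.2.1, rfl, rfl, (and8 seg1_11).2.2.2.2.1, rfl, rfl, (and8 seg2_11).2.2.2.2.1, rfl, rfl, (and8
  seg3_11).2.2.2.2.1, rfl, rfl, (and8 seg4_11).2.2.2.2.1, rfl, rfl, (and8 seg5_11).2.2.2.2.1, rfl, rfl, (and8
  seg6_11).2.2.2.2.1, rfl, rfl, (and8 seg7_11).2.2.2.2.1, rfl, rfl, (and8 seg8_11).2.2.2.2.1, rfl, rfl, (and8
  seg9_11).2.2.2.2.1, rfl, rfl, trivial⟩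

/-- the segments of a table in a class -/
def cI1320_13 : List (Seg × Dyn) :=
  [(g0_13, dI1320_0_13), (g1_13, dI1320_1_13), (g2_13, dI1320_2_13), (g3_13, dI1320_3_13), (g4_13, dI1320_4_13), (g5_13,
  dI1320_5_13), (g6_13, dI1320_6_13), (g7_13, dI1320_7_13), (g8_13, dI1320_8_13), (g9_13, dI1320_9_13)]

theorem aI1320_13 : AllOk jI1320 lp lm cI1320_13 :=
  ⟨(and8 seg0_13).2.2.2.2.1, rfl, rfl, (and8 seg1_13).2.2.2.2.1, rfl, rfl, (and8 seg2_13).2.2.2.2.1, rfl, rfl, (and8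
  seg3_13).2.2.2.2.1, rfl, rfl, (and8 seg4_13).2.2.2.2.1, rfl, rfl, (and8 seg5_13).2.2.2.2.1, rfl, rfl, (and8
  seg6_13).2.2.2.2.1, rfl, rfl, (and8 seg7_13).2.2.2.2.1, rfl, rfl, (and8 seg8_13).2.2.2.2.1, rfl, rfl, (and8
  seg9_13).2.2.2.2.1, rfl, rfl, trivial⟩

/-- the segments of a table in a class -/
def cI1320_17 : List (Seg × Dyn) :=
  [(g0_17, dI1320_0_17), (g1_17, dI1320_1_17), (g2_17, dI1320_2_17), (g3_17, dI1320_3_17), (g4_17, dI1320_4_17), (g5_17,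
  dI1320_5_17), (g6_17, dI1320_6_17), (g7_17, dI1320_7_17), (g8_17, dI1320_8_17), (g9_17, dI1320_9_17)]

theorem aI1320_17 : AllOk jI1320 lp lm cI1320_17 :=
  ⟨(and8 seg0_17).2.2.2.2.1, rfl, rfl, (and8 seg1_17).2.2.2.2.1, rfl, rfl, (and8 seg2_17).2.2.2.2.1, rfl, rfl, (and8
  seg3_17).2.2.2.2.1, rfl, rfl, (and8 seg4_17).2.2.2.2.1, rfl, rfl, (and8 seg5_17).2.2.2.2.1, rfl, rfl, (and8
  seg6_17).2.2.2.2.1, rfl, rfl, (and8 seg7_17).2.2.2.2.1, rfl, rfl, (and8 seg8_17).2.2.2.2.1, rfl, rfl, (and8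
  seg9_17).2.2.2.2.1, rfl, rfl, trivial⟩

/-- the segments of a table in a class -/
def cI1320_19 : List (Seg × Dyn) :=
  [(g0_19, dI1320_0_19), (g1_19, dI1320_1_19), (g2_19, dI1320_2_19), (g3_19, dI1320_3_19), (g4_19, dI1320_4_19), (g5_19,
  dI1320_5_19), (g6_19, dI1320_6_19), (g7_19, dI1320_7_19), (g8_19, dI1320_8_19), (g9_19, dI1320_9_19)]

theorem aI1320_19 : AllOk jI1320 lp lm cI1320_19 :=
  ⟨(and8 seg0_19).2.2.2.2.1, rfl, rfl, (and8 seg1_19).2.2.2.2.1, rfl, rfl, (and8 seg2_19).2.2.2.2.1, rfl, rfl, (and8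
  seg3_19).2.2.2.2.1, rfl, rfl, (and8 seg4_19).2.2.2.2.1, rfl, rfl, (and8 seg5_19).2.2.2.2.1, rfl, rfl, (and8
  seg6_19).2.2.2.2.1, rfl, rfl, (and8 seg7_19).2.2.2.2.1, rfl, rfl, (and8 seg8_19).2.2.2.2.1, rfl, rfl, (and8
  seg9_19).2.2.2.2.1, rfl, rfl, trivial⟩

/-- the segments of a table in a class -/
def cI1320_23 : List (Seg × Dyn) :=
  [(g0_23, dI1320_0_23), (g1_23, dI1320_1_23), (g2_23, dI1320_2_23), (g3_23, dI1320_3_23), (g4_23, dI1320_4_23), (g5_23,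
  dI1320_5_23), (g6_23, dI1320_6_23), (g7_23, dI1320_7_23), (g8_23, dI1320_8_23), (g9_23, dI1320_9_23)]

theorem aI1320_23 : AllOk jI1320 lp lm cI1320_23 :=
  ⟨(and8 seg0_23).2.2.2.2.1, rfl, rfl, (and8 seg1_23).2.2.2.2.1, rfl, rfl, (and8 seg2_23).2.2.2.2.1, rfl, rfl, (and8
  seg3_23).2.2.2.2.1, rfl, rfl, (and8 seg4_23).2.2.2.2.1, rfl, rfl, (and8 seg5_23).2.2.2.2.1, rfl, rfl, (and8
  seg6_23).2.2.2.2.1, rfl, rfl, (and8 seg7_23).2.2.2.2.1, rfl, rfl, (and8 seg8_23).2.2.2.2.1, rfl, rfl, (and8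
  seg9_23).2.2.2.2.1, rfl, rfl, trivial⟩

/-- the segments of a table in a class -/
def cI1320_29 : List (Seg × Dyn) :=
  [(g0_29, dI1320_0_29), (g1_29, dI1320_1_29), (g2_29, dI1320_2_29), (g3_29, dI1320_3_29), (g4_29, dI1320_4_29), (g5_29,
  dI1320_5_29), (g6_29, dI1320_6_29), (g7_29, dI1320_7_29), (g8_29, dI1320_8_29), (g9_29, dI1320_9_29)]

theorem aI1320_29 : AllOk jI1320 lp lm cI1320_29 :=
  ⟨(and8 seg0_29).2.2.2.2.1, rfl, rfl, (and8 seg1_29).2.2.2.2.1, rfl, rfl, (and8 seg2_29).2.2.2.2.1, rfl, rfl, (and8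
  seg3_29).2.2.2.2.1, rfl, rfl, (and8 seg4_29).2.2.2.2.1, rfl, rfl, (and8 seg5_29).2.2.2.2.1, rfl, rfl, (and8
  seg6_29).2.2.2.2.1, rfl, rfl, (and8 seg7_29).2.2.2.2.1, rfl, rfl, (and8 seg8_29).2.2.2.2.1, rfl, rfl, (and8
  seg9_29).2.2.2.2.1, rfl, rfl, trivial⟩

theorem tabI1320 : Tab 2 1320 23000 Ap1320 Am1320 0 bI1320 :=
  tab_of (J := jI1320) trm1320 0xfffffffffff0000000000000000000000000000000000000000000000000000000000000000000000000000000000000000 (by decide +kernel)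
    [(1, cI1320_1), (7, cI1320_7), (11, cI1320_11), (13, cI1320_13), (17, cI1320_17), (19, cI1320_19), (23, cI1320_23), (29, cI1320_29)]
    rfl bI1320 ⟨aI1320_1, aI1320_7, aI1320_11, aI1320_13, aI1320_17, aI1320_19, aI1320_23, aI1320_29, trivial⟩
    (by decide +kernel)

/-- the segments of a table in a class -/
def cI1560_1 : List (Seg × Dyn) :=
  [(g0_1, dI1560_0_1), (g1_1, dI1560_1_1), (g2_1, dI1560_2_1), (g3_1, dI1560_3_1), (g4_1, dI1560_4_1), (g5_1,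
  dI1560_5_1), (g6_1, dI1560_6_1), (g7_1, dI1560_7_1), (g8_1, dI1560_8_1), (g9_1, dI1560_9_1)]

theorem aI1560_1 : AllOk jI1560 lp lm cI1560_1 :=
  ⟨(and8 seg0_1).2.2.2.2.2.1, rfl, rfl, (and8 seg1_1).2.2.2.2.2.1, rfl, rfl, (and8 seg2_1).2.2.2.2.2.1, rfl, rfl, (and8
  seg3_1).2.2.2.2.2.1, rfl, rfl, (and8 seg4_1).2.2.2.2.2.1, rfl, rfl, (and8 seg5_1).2.2.2.2.2.1, rfl, rfl, (and8
  seg6_1).2.2.2.2.2.1, rfl, rfl, (and8 seg7_1).2.2.2.2.2.1, rfl, rfl, (and8 seg8_1).2.2.2.2.2.1, rfl, rfl, (and8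
  seg9_1).2.2.2.2.2.1, rfl, rfl, trivial⟩

/-- the segments of a table in a class -/
def cI1560_7 : List (Seg × Dyn) :=
  [(g0_7, dI1560_0_7), (g1_7, dI1560_1_7), (g2_7, dI1560_2_7), (g3_7, dI1560_3_7), (g4_7, dI1560_4_7), (g5_7,
  dI1560_5_7), (g6_7, dI1560_6_7), (g7_7, dI1560_7_7), (g8_7, dI1560_8_7), (g9_7, dI1560_9_7)]

theorem aI1560_7 : AllOk jI1560 lp lm cI1560_7 :=
  ⟨(and8 seg0_7).2.2.2.2.2.1, rfl, rfl, (and8 seg1_7).2.2.2.2.2.1, rfl, rfl, (and8 seg2_7).2.2.2.2.2.1, rfl, rfl, (and8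
  seg3_7).2.2.2.2.2.1, rfl, rfl, (and8 seg4_7).2.2.2.2.2.1, rfl, rfl, (and8 seg5_7).2.2.2.2.2.1, rfl, rfl, (and8
  seg6_7).2.2.2.2.2.1, rfl, rfl, (and8 seg7_7).2.2.2.2.2.1, rfl, rfl, (and8 seg8_7).2.2.2.2.2.1, rfl, rfl, (and8
  seg9_7).2.2.2.2.2.1, rfl, rfl, trivial⟩

/-- the segments of a table in a class -/
def cI1560_11 : List (Seg × Dyn) :=
  [(g0_11, dI1560_0_11), (g1_11, dI1560_1_11), (g2_11, dI1560_2_11), (g3_11, dI1560_3_11), (g4_11, dI1560_4_11), (g5_11,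
  dI1560_5_11), (g6_11, dI1560_6_11), (g7_11, dI1560_7_11), (g8_11, dI1560_8_11), (g9_11, dI1560_9_11)]

theorem aI1560_11 : AllOk jI1560 lp lm cI1560_11 :=
  ⟨(and8 seg0_11).2.2.2.2.2.1, rfl, rfl, (and8 seg1_11).2.2.2.2.2.1, rfl, rfl, (and8 seg2_11).2.2.2.2.2.1, rfl, rfl,
  (and8 seg3_11).2.2.2.2.2.1, rfl, rfl, (and8 seg4_11).2.2.2.2.2.1, rfl, rfl, (and8 seg5_11).2.2.2.2.2.1, rfl, rfl,
  (and8 seg6_11).2.2.2.2.2.1, rfl, rfl, (and8 seg7_11).2.2.2.2.2.1, rfl, rfl, (and8 seg8_11).2.2.2.2.2.1, rfl, rfl,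
  (and8 seg9_11).2.2.2.2.2.1, rfl, rfl, trivial⟩

/-- the segments of a table in a class -/
def cI1560_13 : List (Seg × Dyn) :=
  [(g0_13, dI1560_0_13), (g1_13, dI1560_1_13), (g2_13, dI1560_2_13), (g3_13, dI1560_3_13), (g4_13, dI1560_4_13), (g5_13,
  dI1560_5_13), (g6_13, dI1560_6_13), (g7_13, dI1560_7_13), (g8_13, dI1560_8_13), (g9_13, dI1560_9_13)]

theorem aI1560_13 : AllOk jI1560 lp lm cI1560_13 :=
  ⟨(and8 seg0_13).2.2.2.2.2.1, rfl, rfl, (and8 seg1_13).2.2.2.2.2.1, rfl, rfl, (and8 seg2_13).2.2.2.2.2.1, rfl, rfl,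
  (and8 seg3_13).2.2.2.2.2.1, rfl, rfl, (and8 seg4_13).2.2.2.2.2.1, rfl, rfl, (and8 seg5_13).2.2.2.2.2.1, rfl, rfl,
  (and8 seg6_13).2.2.2.2.2.1, rfl, rfl, (and8 seg7_13).2.2.2.2.2.1, rfl, rfl, (and8 seg8_13).2.2.2.2.2.1, rfl, rfl,
  (and8 seg9_13).2.2.2.2.2.1, rfl, rfl, trivial⟩

/-- the segments of a table in a class -/
def cI1560_17 : List (Seg × Dyn) :=
  [(g0_17, dI1560_0_17), (g1_17, dI1560_1_17), (g2_17, dI1560_2_17), (g3_17, dI1560_3_17), (g4_17, dI1560_4_17), (g5_17,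
  dI1560_5_17), (g6_17, dI1560_6_17), (g7_17, dI1560_7_17), (g8_17, dI1560_8_17), (g9_17, dI1560_9_17)]

theorem aI1560_17 : AllOk jI1560 lp lm cI1560_17 :=
  ⟨(and8 seg0_17).2.2.2.2.2.1, rfl, rfl, (and8 seg1_17).2.2.2.2.2.1, rfl, rfl, (and8 seg2_17).2.2.2.2.2.1, rfl, rfl,
  (and8 seg3_17).2.2.2.2.2.1, rfl, rfl, (and8 seg4_17).2.2.2.2.2.1, rfl, rfl, (and8 seg5_17).2.2.2.2.2.1, rfl, rfl,
  (and8 seg6_17).2.2.2.2.2.1, rfl, rfl, (and8 seg7_17).2.2.2.2.2.1, rfl, rfl, (and8 seg8_17).2.2.2.2.2.1, rfl, rfl,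
  (and8 seg9_17).2.2.2.2.2.1, rfl, rfl, trivial⟩

/-- the segments of a table in a class -/
def cI1560_19 : List (Seg × Dyn) :=
  [(g0_19, dI1560_0_19), (g1_19, dI1560_1_19), (g2_19, dI1560_2_19), (g3_19, dI1560_3_19), (g4_19, dI1560_4_19), (g5_19,
  dI1560_5_19), (g6_19, dI1560_6_19), (g7_19, dI1560_7_19), (g8_19, dI1560_8_19), (g9_19, dI1560_9_19)]

theorem aI1560_19 : AllOk jI1560 lp lm cI1560_19 :=
  ⟨(and8 seg0_19).2.2.2.2.2.1, rfl, rfl, (and8 seg1_19).2.2.2.2.2.1, rfl, rfl, (and8 seg2_19).2.2.2.2.2.1, rfl, rfl,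
  (and8 seg3_19).2.2.2.2.2.1, rfl, rfl, (and8 seg4_19).2.2.2.2.2.1, rfl, rfl, (and8 seg5_19).2.2.2.2.2.1, rfl, rfl,
  (and8 seg6_19).2.2.2.2.2.1, rfl, rfl, (and8 seg7_19).2.2.2.2.2.1, rfl, rfl, (and8 seg8_19).2.2.2.2.2.1, rfl, rfl,
  (and8 seg9_19).2.2.2.2.2.1, rfl, rfl, trivial⟩

/-- the segments of a table in a class -/
def cI1560_23 : List (Seg × Dyn) :=
  [(g0_23, dI1560_0_23), (g1_23, dI1560_1_23), (g2_23, dI1560_2_23), (g3_23, dI1560_3_23), (g4_23, dI1560_4_23), (g5_23,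
  dI1560_5_23), (g6_23, dI1560_6_23), (g7_23, dI1560_7_23), (g8_23, dI1560_8_23), (g9_23, dI1560_9_23)]

theorem aI1560_23 : AllOk jI1560 lp lm cI1560_23 :=
  ⟨(and8 seg0_23).2.2.2.2.2.1, rfl, rfl, (and8 seg1_23).2.2.2.2.2.1, rfl, rfl, (and8 seg2_23).2.2.2.2.2.1, rfl, rfl,
  (and8 seg3_23).2.2.2.2.2.1, rfl, rfl, (and8 seg4_23).2.2.2.2.2.1, rfl, rfl, (and8 seg5_23).2.2.2.2.2.1, rfl, rfl,
  (and8 seg6_23).2.2.2.2.2.1, rfl, rfl, (and8 seg7_23).2.2.2.2.2.1, rfl, rfl, (and8 seg8_23).2.2.2.2.2.1, rfl, rfl,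
  (and8 seg9_23).2.2.2.2.2.1, rfl, rfl, trivial⟩

/-- the segments of a table in a class -/
def cI1560_29 : List (Seg × Dyn) :=
  [(g0_29, dI1560_0_29), (g1_29, dI1560_1_29), (g2_29, dI1560_2_29), (g3_29, dI1560_3_29), (g4_29, dI1560_4_29), (g5_29,
  dI1560_5_29), (g6_29, dI1560_6_29), (g7_29, dI1560_7_29), (g8_29, dI1560_8_29), (g9_29, dI1560_9_29)]

theorem aI1560_29 : AllOk jI1560 lp lm cI1560_29 :=
  ⟨(and8 seg0_29).2.2.2.2.2.1, rfl, rfl, (and8 seg1_29).2.2.2.2.2.1, rfl, rfl, (and8 seg2_29).2.2.2.2.2.1, rfl, rfl,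
  (and8 seg3_29).2.2.2.2.2.1, rfl, rfl, (and8 seg4_29).2.2.2.2.2.1, rfl, rfl, (and8 seg5_29).2.2.2.2.2.1, rfl, rfl,
  (and8 seg6_29).2.2.2.2.2.1, rfl, rfl, (and8 seg7_29).2.2.2.2.2.1, rfl, rfl, (and8 seg8_29).2.2.2.2.2.1, rfl, rfl,
  (and8 seg9_29).2.2.2.2.2.1, rfl, rfl, trivial⟩

theorem tabI1560 : Tab 2 1560 23000 Ap1560 Am1560 0 bI1560 :=
  tab_of (J := jI1560) trm1560 0xfffffffffffff00000000000000000000000000000000000000000000000000000000000000000000000000000000000000000000000000000000 (by decide +kernel)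
    [(1, cI1560_1), (7, cI1560_7), (11, cI1560_11), (13, cI1560_13), (17, cI1560_17), (19, cI1560_19), (23, cI1560_23), (29, cI1560_29)]
    rfl bI1560 ⟨aI1560_1, aI1560_7, aI1560_11, aI1560_13, aI1560_17, aI1560_19, aI1560_23, aI1560_29, trivial⟩
    (by decide +kernel)

/-- the segments of a table in a class -/
def cI2040_1 : List (Seg × Dyn) :=
  [(g0_1, dI2040_0_1), (g1_1, dI2040_1_1), (g2_1, dI2040_2_1), (g3_1, dI2040_3_1), (g4_1, dI2040_4_1), (g5_1,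
  dI2040_5_1), (g6_1, dI2040_6_1), (g7_1, dI2040_7_1), (g8_1, dI2040_8_1), (g9_1, dI2040_9_1)]

theorem aI2040_1 : AllOk jI2040 lp lm cI2040_1 :=
  ⟨(and8 seg0_1).2.2.2.2.2.2.1, rfl, rfl, (and8 seg1_1).2.2.2.2.2.2.1, rfl, rfl, (and8 seg2_1).2.2.2.2.2.2.1, rfl, rfl,
  (and8 seg3_1).2.2.2.2.2.2.1, rfl, rfl, (and8 seg4_1).2.2.2.2.2.2.1, rfl, rfl, (and8 seg5_1).2.2.2.2.2.2.1, rfl, rfl,
  (and8 seg6_1).2.2.2.2.2.2.1, rfl, rfl, (and8 seg7_1).2.2.2.2.2.2.1, rfl, rfl, (and8 seg8_1).2.2.2.2.2.2.1, rfl, rfl,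
  (and8 seg9_1).2.2.2.2.2.2.1, rfl, rfl, trivial⟩

/-- the segments of a table in a class -/
def cI2040_7 : List (Seg × Dyn) :=
  [(g0_7, dI2040_0_7), (g1_7, dI2040_1_7), (g2_7, dI2040_2_7), (g3_7, dI2040_3_7), (g4_7, dI2040_4_7), (g5_7,
  dI2040_5_7), (g6_7, dI2040_6_7), (g7_7, dI2040_7_7), (g8_7, dI2040_8_7), (g9_7, dI2040_9_7)]

theorem aI2040_7 : AllOk jI2040 lp lm cI2040_7 :=
  ⟨(and8 seg0_7).2.2.2.2.2.2.1, rfl, rfl, (and8 seg1_7).2.2.2.2.2.2.1, rfl, rfl, (and8 seg2_7).2.2.2.2.2.2.1, rfl, rfl,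
  (and8 seg3_7).2.2.2.2.2.2.1, rfl, rfl, (and8 seg4_7).2.2.2.2.2.2.1, rfl, rfl, (and8 seg5_7).2.2.2.2.2.2.1, rfl, rfl,
  (and8 seg6_7).2.2.2.2.2.2.1, rfl, rfl, (and8 seg7_7).2.2.2.2.2.2.1, rfl, rfl, (and8 seg8_7).2.2.2.2.2.2.1, rfl, rfl,
  (and8 seg9_7).2.2.2.2.2.2.1, rfl, rfl, trivial⟩

/-- the segments of a table in a class -/
def cI2040_11 : List (Seg × Dyn) :=
  [(g0_11, dI2040_0_11), (g1_11, dI2040_1_11), (g2_11, dI2040_2_11), (g3_11, dI2040_3_11), (g4_11, dI2040_4_11), (g5_11,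
  dI2040_5_11), (g6_11, dI2040_6_11), (g7_11, dI2040_7_11), (g8_11, dI2040_8_11), (g9_11, dI2040_9_11)]

theorem aI2040_11 : AllOk jI2040 lp lm cI2040_11 :=
  ⟨(and8 seg0_11).2.2.2.2.2.2.1, rfl, rfl, (and8 seg1_11).2.2.2.2.2.2.1, rfl, rfl, (and8 seg2_11).2.2.2.2.2.2.1, rfl,
  rfl, (and8 seg3_11).2.2.2.2.2.2.1, rfl, rfl, (and8 seg4_11).2.2.2.2.2.2.1, rfl, rfl, (and8 seg5_11).2.2.2.2.2.2.1,
  rfl, rfl, (and8 seg6_11).2.2.2.2.2.2.1, rfl, rfl, (and8 seg7_11).2.2.2.2.2.2.1, rfl, rfl, (and8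
  seg8_11).2.2.2.2.2.2.1, rfl, rfl, (and8 seg9_11).2.2.2.2.2.2.1, rfl, rfl, trivial⟩

/-- the segments of a table in a class -/
def cI2040_13 : List (Seg × Dyn) :=
  [(g0_13, dI2040_0_13), (g1_13, dI2040_1_13), (g2_13, dI2040_2_13), (g3_13, dI2040_3_13), (g4_13, dI2040_4_13), (g5_13,
  dI2040_5_13), (g6_13, dI2040_6_13), (g7_13, dI2040_7_13), (g8_13, dI2040_8_13), (g9_13, dI2040_9_13)]

theorem aI2040_13 : AllOk jI2040 lp lm cI2040_13 :=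
  ⟨(and8 seg0_13).2.2.2.2.2.2.1, rfl, rfl, (and8 seg1_13).2.2.2.2.2.2.1, rfl, rfl, (and8 seg2_13).2.2.2.2.2.2.1, rfl,
  rfl, (and8 seg3_13).2.2.2.2.2.2.1, rfl, rfl, (and8 seg4_13).2.2.2.2.2.2.1, rfl, rfl, (and8 seg5_13).2.2.2.2.2.2.1,
  rfl, rfl, (and8 seg6_13).2.2.2.2.2.2.1, rfl, rfl, (and8 seg7_13).2.2.2.2.2.2.1, rfl, rfl, (and8
  seg8_13).2.2.2.2.2.2.1, rfl, rfl, (and8 seg9_13).2.2.2.2.2.2.1, rfl, rfl, trivial⟩

/-- the segments of a table in a class -/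
def cI2040_17 : List (Seg × Dyn) :=
  [(g0_17, dI2040_0_17), (g1_17, dI2040_1_17), (g2_17, dI2040_2_17), (g3_17, dI2040_3_17), (g4_17, dI2040_4_17), (g5_17,
  dI2040_5_17), (g6_17, dI2040_6_17), (g7_17, dI2040_7_17), (g8_17, dI2040_8_17), (g9_17, dI2040_9_17)]

theorem aI2040_17 : AllOk jI2040 lp lm cI2040_17 :=
  ⟨(and8 seg0_17).2.2.2.2.2.2.1, rfl, rfl, (and8 seg1_17).2.2.2.2.2.2.1, rfl, rfl, (and8 seg2_17).2.2.2.2.2.2.1, rfl,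
  rfl, (and8 seg3_17).2.2.2.2.2.2.1, rfl, rfl, (and8 seg4_17).2.2.2.2.2.2.1, rfl, rfl, (and8 seg5_17).2.2.2.2.2.2.1,
  rfl, rfl, (and8 seg6_17).2.2.2.2.2.2.1, rfl, rfl, (and8 seg7_17).2.2.2.2.2.2.1, rfl, rfl, (and8
  seg8_17).2.2.2.2.2.2.1, rfl, rfl, (and8 seg9_17).2.2.2.2.2.2.1, rfl, rfl, trivial⟩

/-- the segments of a table in a class -/
def cI2040_19 : List (Seg × Dyn) :=
  [(g0_19, dI2040_0_19), (g1_19, dI2040_1_19), (g2_19, dI2040_2_19), (g3_19, dI2040_3_19), (g4_19, dI2040_4_19), (g5_19,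
  dI2040_5_19), (g6_19, dI2040_6_19), (g7_19, dI2040_7_19), (g8_19, dI2040_8_19), (g9_19, dI2040_9_19)]

theorem aI2040_19 : AllOk jI2040 lp lm cI2040_19 :=
  ⟨(and8 seg0_19).2.2.2.2.2.2.1, rfl, rfl, (and8 seg1_19).2.2.2.2.2.2.1, rfl, rfl, (and8 seg2_19).2.2.2.2.2.2.1, rfl,
  rfl, (and8 seg3_19).2.2.2.2.2.2.1, rfl, rfl, (and8 seg4_19).2.2.2.2.2.2.1, rfl, rfl, (and8 seg5_19).2.2.2.2.2.2.1,
  rfl, rfl, (and8 seg6_19).2.2.2.2.2.2.1, rfl, rfl, (and8 seg7_19).2.2.2.2.2.2.1, rfl, rfl, (and8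
  seg8_19).2.2.2.2.2.2.1, rfl, rfl, (and8 seg9_19).2.2.2.2.2.2.1, rfl, rfl, trivial⟩

/-- the segments of a table in a class -/
def cI2040_23 : List (Seg × Dyn) :=
  [(g0_23, dI2040_0_23), (g1_23, dI2040_1_23), (g2_23, dI2040_2_23), (g3_23, dI2040_3_23), (g4_23, dI2040_4_23), (g5_23,
  dI2040_5_23), (g6_23, dI2040_6_23), (g7_23, dI2040_7_23), (g8_23, dI2040_8_23), (g9_23, dI2040_9_23)]

theorem aI2040_23 : AllOk jI2040 lp lm cI2040_23 :=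
  ⟨(and8 seg0_23).2.2.2.2.2.2.1, rfl, rfl, (and8 seg1_23).2.2.2.2.2.2.1, rfl, rfl, (and8 seg2_23).2.2.2.2.2.2.1, rfl,
  rfl, (and8 seg3_23).2.2.2.2.2.2.1, rfl, rfl, (and8 seg4_23).2.2.2.2.2.2.1, rfl, rfl, (and8 seg5_23).2.2.2.2.2.2.1,
  rfl, rfl, (and8 seg6_23).2.2.2.2.2.2.1, rfl, rfl, (and8 seg7_23).2.2.2.2.2.2.1, rfl, rfl, (and8
  seg8_23).2.2.2.2.2.2.1, rfl, rfl, (and8 seg9_23).2.2.2.2.2.2.1, rfl, rfl, trivial⟩

/-- the segments of a table in a class -/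
def cI2040_29 : List (Seg × Dyn) :=
  [(g0_29, dI2040_0_29), (g1_29, dI2040_1_29), (g2_29, dI2040_2_29), (g3_29, dI2040_3_29), (g4_29, dI2040_4_29), (g5_29,
  dI2040_5_29), (g6_29, dI2040_6_29), (g7_29, dI2040_7_29), (g8_29, dI2040_8_29), (g9_29, dI2040_9_29)]

theorem aI2040_29 : AllOk jI2040 lp lm cI2040_29 :=
  ⟨(and8 seg0_29).2.2.2.2.2.2.1, rfl, rfl, (and8 seg1_29).2.2.2.2.2.2.1, rfl, rfl, (and8 seg2_29).2.2.2.2.2.2.1, rfl,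
  rfl, (and8 seg3_29).2.2.2.2.2.2.1, rfl, rfl, (and8 seg4_29).2.2.2.2.2.2.1, rfl, rfl, (and8 seg5_29).2.2.2.2.2.2.1,
  rfl, rfl, (and8 seg6_29).2.2.2.2.2.2.1, rfl, rfl, (and8 seg7_29).2.2.2.2.2.2.1, rfl, rfl, (and8
  seg8_29).2.2.2.2.2.2.1, rfl, rfl, (and8 seg9_29).2.2.2.2.2.2.1, rfl, rfl, trivial⟩

theorem tabI2040 : Tab 2 2040 23000 Ap2040 Am2040 0 bI2040 :=
  tab_of (J := jI2040) trm2040 0xfffffffffffffffff0000000000000000000000000000000000000000000000000000000000000000000000000000000000000000000000000000000000000000000000000000000000000000 (by decide +kernel)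
    [(1, cI2040_1), (7, cI2040_7), (11, cI2040_11), (13, cI2040_13), (17, cI2040_17), (19, cI2040_19), (23, cI2040_23), (29, cI2040_29)]
    rfl bI2040 ⟨aI2040_1, aI2040_7, aI2040_11, aI2040_13, aI2040_17, aI2040_19, aI2040_23, aI2040_29, trivial⟩
    (by decide +kernel)

/-- the segments of a table in a class -/
def cI2280_1 : List (Seg × Dyn) :=
  [(g0_1, dI2280_0_1), (g1_1, dI2280_1_1), (g2_1, dI2280_2_1), (g3_1, dI2280_3_1), (g4_1, dI2280_4_1), (g5_1,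
  dI2280_5_1), (g6_1, dI2280_6_1), (g7_1, dI2280_7_1), (g8_1, dI2280_8_1), (g9_1, dI2280_9_1)]

theorem aI2280_1 : AllOk jI2280 lp lm cI2280_1 :=
  ⟨(and8 seg0_1).2.2.2.2.2.2.2, rfl, rfl, (and8 seg1_1).2.2.2.2.2.2.2, rfl, rfl, (and8 seg2_1).2.2.2.2.2.2.2, rfl, rfl,
  (and8 seg3_1).2.2.2.2.2.2.2, rfl, rfl, (and8 seg4_1).2.2.2.2.2.2.2, rfl, rfl, (and8 seg5_1).2.2.2.2.2.2.2, rfl, rfl,
  (and8 seg6_1).2.2.2.2.2.2.2, rfl, rfl, (and8 seg7_1).2.2.2.2.2.2.2, rfl, rfl, (and8 seg8_1).2.2.2.2.2.2.2, rfl, rfl,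
  (and8 seg9_1).2.2.2.2.2.2.2, rfl, rfl, trivial⟩

/-- the segments of a table in a class -/
def cI2280_7 : List (Seg × Dyn) :=
  [(g0_7, dI2280_0_7), (g1_7, dI2280_1_7), (g2_7, dI2280_2_7), (g3_7, dI2280_3_7), (g4_7, dI2280_4_7), (g5_7,
  dI2280_5_7), (g6_7, dI2280_6_7), (g7_7, dI2280_7_7), (g8_7, dI2280_8_7), (g9_7, dI2280_9_7)]

theorem aI2280_7 : AllOk jI2280 lp lm cI2280_7 :=
  ⟨(and8 seg0_7).2.2.2.2.2.2.2, rfl, rfl, (and8 seg1_7).2.2.2.2.2.2.2, rfl, rfl, (and8 seg2_7).2.2.2.2.2.2.2, rfl, rfl,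
  (and8 seg3_7).2.2.2.2.2.2.2, rfl, rfl, (and8 seg4_7).2.2.2.2.2.2.2, rfl, rfl, (and8 seg5_7).2.2.2.2.2.2.2, rfl, rfl,
  (and8 seg6_7).2.2.2.2.2.2.2, rfl, rfl, (and8 seg7_7).2.2.2.2.2.2.2, rfl, rfl, (and8 seg8_7).2.2.2.2.2.2.2, rfl, rfl,
  (and8 seg9_7).2.2.2.2.2.2.2, rfl, rfl, trivial⟩

/-- the segments of a table in a class -/
def cI2280_11 : List (Seg × Dyn) :=
  [(g0_11, dI2280_0_11), (g1_11, dI2280_1_11), (g2_11, dI2280_2_11), (g3_11, dI2280_3_11), (g4_11, dI2280_4_11), (g5_11,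
  dI2280_5_11), (g6_11, dI2280_6_11), (g7_11, dI2280_7_11), (g8_11, dI2280_8_11), (g9_11, dI2280_9_11)]

theorem aI2280_11 : AllOk jI2280 lp lm cI2280_11 :=
  ⟨(and8 seg0_11).2.2.2.2.2.2.2, rfl, rfl, (and8 seg1_11).2.2.2.2.2.2.2, rfl, rfl, (and8 seg2_11).2.2.2.2.2.2.2, rfl,
  rfl, (and8 seg3_11).2.2.2.2.2.2.2, rfl, rfl, (and8 seg4_11).2.2.2.2.2.2.2, rfl, rfl, (and8 seg5_11).2.2.2.2.2.2.2,
  rfl, rfl, (and8 seg6_11).2.2.2.2.2.2.2, rfl, rfl, (and8 seg7_11).2.2.2.2.2.2.2, rfl, rfl, (and8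
  seg8_11).2.2.2.2.2.2.2, rfl, rfl, (and8 seg9_11).2.2.2.2.2.2.2, rfl, rfl, trivial⟩

/-- the segments of a table in a class -/
def cI2280_13 : List (Seg × Dyn) :=
  [(g0_13, dI2280_0_13), (g1_13, dI2280_1_13), (g2_13, dI2280_2_13), (g3_13, dI2280_3_13), (g4_13, dI2280_4_13), (g5_13,
  dI2280_5_13), (g6_13, dI2280_6_13), (g7_13, dI2280_7_13), (g8_13, dI2280_8_13), (g9_13, dI2280_9_13)]

theorem aI2280_13 : AllOk jI2280 lp lm cI2280_13 :=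
  ⟨(and8 seg0_13).2.2.2.2.2.2.2, rfl, rfl, (and8 seg1_13).2.2.2.2.2.2.2, rfl, rfl, (and8 seg2_13).2.2.2.2.2.2.2, rfl,
  rfl, (and8 seg3_13).2.2.2.2.2.2.2, rfl, rfl, (and8 seg4_13).2.2.2.2.2.2.2, rfl, rfl, (and8 seg5_13).2.2.2.2.2.2.2,
  rfl, rfl, (and8 seg6_13).2.2.2.2.2.2.2, rfl, rfl, (and8 seg7_13).2.2.2.2.2.2.2, rfl, rfl, (and8
  seg8_13).2.2.2.2.2.2.2, rfl, rfl, (and8 seg9_13).2.2.2.2.2.2.2, rfl, rfl, trivial⟩

/-- the segments of a table in a class -/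
def cI2280_17 : List (Seg × Dyn) :=
  [(g0_17, dI2280_0_17), (g1_17, dI2280_1_17), (g2_17, dI2280_2_17), (g3_17, dI2280_3_17), (g4_17, dI2280_4_17), (g5_17,
  dI2280_5_17), (g6_17, dI2280_6_17), (g7_17, dI2280_7_17), (g8_17, dI2280_8_17), (g9_17, dI2280_9_17)]

theorem aI2280_17 : AllOk jI2280 lp lm cI2280_17 :=
  ⟨(and8 seg0_17).2.2.2.2.2.2.2, rfl, rfl, (and8 seg1_17).2.2.2.2.2.2.2, rfl, rfl, (and8 seg2_17).2.2.2.2.2.2.2, rfl,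
  rfl, (and8 seg3_17).2.2.2.2.2.2.2, rfl, rfl, (and8 seg4_17).2.2.2.2.2.2.2, rfl, rfl, (and8 seg5_17).2.2.2.2.2.2.2,
  rfl, rfl, (and8 seg6_17).2.2.2.2.2.2.2, rfl, rfl, (and8 seg7_17).2.2.2.2.2.2.2, rfl, rfl, (and8
  seg8_17).2.2.2.2.2.2.2, rfl, rfl, (and8 seg9_17).2.2.2.2.2.2.2, rfl, rfl, trivial⟩

/-- the segments of a table in a class -/
def cI2280_19 : List (Seg × Dyn) :=
  [(g0_19, dI2280_0_19), (g1_19, dI2280_1_19), (g2_19, dI2280_2_19), (g3_19, dI2280_3_19), (g4_19, dI2280_4_19), (g5_19,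
  dI2280_5_19), (g6_19, dI2280_6_19), (g7_19, dI2280_7_19), (g8_19, dI2280_8_19), (g9_19, dI2280_9_19)]

theorem aI2280_19 : AllOk jI2280 lp lm cI2280_19 :=
  ⟨(and8 seg0_19).2.2.2.2.2.2.2, rfl, rfl, (and8 seg1_19).2.2.2.2.2.2.2, rfl, rfl, (and8 seg2_19).2.2.2.2.2.2.2, rfl,
  rfl, (and8 seg3_19).2.2.2.2.2.2.2, rfl, rfl, (and8 seg4_19).2.2.2.2.2.2.2, rfl, rfl, (and8 seg5_19).2.2.2.2.2.2.2,
  rfl, rfl, (and8 seg6_19).2.2.2.2.2.2.2, rfl, rfl, (and8 seg7_19).2.2.2.2.2.2.2, rfl, rfl, (and8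
  seg8_19).2.2.2.2.2.2.2, rfl, rfl, (and8 seg9_19).2.2.2.2.2.2.2, rfl, rfl, trivial⟩

/-- the segments of a table in a class -/
def cI2280_23 : List (Seg × Dyn) :=
  [(g0_23, dI2280_0_23), (g1_23, dI2280_1_23), (g2_23, dI2280_2_23), (g3_23, dI2280_3_23), (g4_23, dI2280_4_23), (g5_23,
  dI2280_5_23), (g6_23, dI2280_6_23), (g7_23, dI2280_7_23), (g8_23, dI2280_8_23), (g9_23, dI2280_9_23)]

theorem aI2280_23 : AllOk jI2280 lp lm cI2280_23 :=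
  ⟨(and8 seg0_23).2.2.2.2.2.2.2, rfl, rfl, (and8 seg1_23).2.2.2.2.2.2.2, rfl, rfl, (and8 seg2_23).2.2.2.2.2.2.2, rfl,
  rfl, (and8 seg3_23).2.2.2.2.2.2.2, rfl, rfl, (and8 seg4_23).2.2.2.2.2.2.2, rfl, rfl, (and8 seg5_23).2.2.2.2.2.2.2,
  rfl, rfl, (and8 seg6_23).2.2.2.2.2.2.2, rfl, rfl, (and8 seg7_23).2.2.2.2.2.2.2, rfl, rfl, (and8
  seg8_23).2.2.2.2.2.2.2, rfl, rfl, (and8 seg9_23).2.2.2.2.2.2.2, rfl, rfl, trivial⟩

/-- the segments of a table in a class -/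
def cI2280_29 : List (Seg × Dyn) :=
  [(g0_29, dI2280_0_29), (g1_29, dI2280_1_29), (g2_29, dI2280_2_29), (g3_29, dI2280_3_29), (g4_29, dI2280_4_29), (g5_29,
  dI2280_5_29), (g6_29, dI2280_6_29), (g7_29, dI2280_7_29), (g8_29, dI2280_8_29), (g9_29, dI2280_9_29)]

theorem aI2280_29 : AllOk jI2280 lp lm cI2280_29 :=
  ⟨(and8 seg0_29).2.2.2.2.2.2.2, rfl, rfl, (and8 seg1_29).2.2.2.2.2.2.2, rfl, rfl, (and8 seg2_29).2.2.2.2.2.2.2, rfl,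
  rfl, (and8 seg3_29).2.2.2.2.2.2.2, rfl, rfl, (and8 seg4_29).2.2.2.2.2.2.2, rfl, rfl, (and8 seg5_29).2.2.2.2.2.2.2,
  rfl, rfl, (and8 seg6_29).2.2.2.2.2.2.2, rfl, rfl, (and8 seg7_29).2.2.2.2.2.2.2, rfl, rfl, (and8
  seg8_29).2.2.2.2.2.2.2, rfl, rfl, (and8 seg9_29).2.2.2.2.2.2.2, rfl, rfl, trivial⟩

theorem tabI2280 : Tab 2 2280 23000 Ap2280 Am2280 0 bI2280 :=
  tab_of (J := jI2280) trm2280 0xfffffffffffffffffff00000000000000000000000000000000000000000000000000000000000000000000000000000000000000000000000000000000000000000000000000000000000000000000000000000000 (by decide +kernel)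
    [(1, cI2280_1), (7, cI2280_7), (11, cI2280_11), (13, cI2280_13), (17, cI2280_17), (19, cI2280_19), (23, cI2280_23), (29, cI2280_29)]
    rfl bI2280 ⟨aI2280_1, aI2280_7, aI2280_11, aI2280_13, aI2280_17, aI2280_19, aI2280_23, aI2280_29, trivial⟩
    (by decide +kernel)

/-- the tables -/
theorem tabs : Tabs :=
  ⟨tabP60, tabI60, tabI120, tabI840, tabI1320, tabI1560, tabI2040, tabI2280⟩

end Cfsg.Agent.Depth.P.T
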